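import Cfsg.Agent.PQ.Fa.Grp
import Cfsg.Agent.LV.Blk.Sit
import Cfsg.Agent.KZ.Lie.Loc
import Cfsg.Agent.KZ.Dat.Cov
import Cfsg.Agent.KZ.Mts.Main

/-!
# PQ, the rows `Fa`: cross characteristic over a situation `Sit` (helper42)

`inn_of_sit` : if a power of every admissible matrix is a scalar, an automorphism of `q`-power order which fixes the
classes of `l`-elements acts on a Sylow `l`-subgroup like an inner automorphism.
-/

set_option autoImplicit false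
set_option linter.unusedSectionVars false

namespace Cfsg.Agent.PQ.Fa

open Cfsg Cfsg.Agent.DL Cfsg.Agent.DL.PP Cfsg.Agent.DL.Uni Cfsg.Agent.DL.Asm Cfsg.Agent.Nodes.Reps Matrix
  Cfsg.Agent.KZ.Lie

theorem relIndex_dvd {H : Type} [Group H] [Finite H] (K N : Subgroup H) [N.Normal] : K.relIndex N ∣ K.index := by
  have h1 := Subgroup.relIndex_mul_index (inf_le_right : K ⊓ N ≤ N)
  have h2 := Subgroup.relIndex_mul_index (inf_le_left : K ⊓ N ≤ K)
  have h3 := Subgroup.relIndex_mul_index (le_sup_right : N ≤ K ⊔ N)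
  rw [Subgroup.inf_relIndex_right] at h1
  rw [Subgroup.inf_relIndex_left] at h2
  rw [Subgroup.relIndex_sup_right] at h3
  refine ⟨(K ⊔ N).index, Nat.eq_of_mul_eq_mul_left (Nat.pos_of_ne_zero
    (Subgroup.index_ne_zero_of_finite (H := N.subgroupOf K))) ?_⟩
  show N.relIndex K * _ = N.relIndex K * _
  rw [h2, ← h1, ← h3]
  ring

theorem not_dvd_index {H : Type} [Group H] [Finite H] {l : ℕ} (hl : l.Prime) {K : Subgroup H}
    (h : (Nat.card H).factorization l = (Nat.card ↥K).factorization l) : ¬ l ∣ K.index := fun h3 => by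
  rw [← K.card_mul_index, Nat.factorization_mul Nat.card_pos.ne' Subgroup.index_ne_zero_of_finite, Finsupp.add_apply,
    add_eq_left] at h
  exact (hl.factorization_pos_of_dvd Subgroup.index_ne_zero_of_finite h3).ne' h

variable {p : ℕ} [Fact p.Prime] {k : Type} [Field k] [CharP k p] {Y : Type} [Group Y] {N : Type} [Fintype N]
  [DecidableEq N] {ρ : Y →* GL N k} {F : MulAut Y} {G : Subgroup Y} [IsAlgClosed k] {D : Datum p ρ F G}
  {Adm : Matrix D.R D.R ℤ → Prop} {S : Type} [Group S] {α β : MulAut Y} {A : Matrix D.R D.R ℤ} {σ τ : MulAut S}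
  {l q : ℕ} {u : ℤ}

/-- `g α` lifts `σ` -/
def Lt (s : Sit D Adm S) (σ : MulAut S) (g : Y) (α : MulAut Y) : Prop :=
  ∀ h : ↥s.H0, ∃ h' : ↥s.H0, (h' : Y) = g * α h * g⁻¹ ∧ s.π h' = σ (s.π h)

theorem Lt.mul {s : Sit D Adm S} {g g' : Y} (h : Lt s σ g α) (h' : Lt s τ g' β) : Lt s (σ * τ) (g * α g') (α * β) :=
  fun x => by
    obtain ⟨a, e1, e2⟩ := h' x
    obtain ⟨b, e3, e4⟩ := h a
    exact ⟨b, by rw [e3, e1, map_mul, map_mul, map_inv, MulAut.mul_apply]; group, by rw [e4, e2, MulAut.mul_apply]⟩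

theorem lt_pow {s : Sit D Adm S} {g : Y} (hg : g ∈ GF F G) (hα : Au D α A) (h : Lt s σ g α) (n : ℕ) :
    Au D (α ^ n) (A ^ n) ∧ ∃ g' ∈ GF F G, Lt s (σ ^ n) g' (α ^ n) := by
  induction n with
  | zero => exact ⟨KZ.Dat.au_one, 1, one_mem _, fun x => ⟨x, by simp, rfl⟩⟩
  | succ n ih =>
    obtain ⟨h1, g', h2, h3⟩ := ih
    rw [pow_succ', pow_succ', pow_succ']
    exact ⟨KZ.Dat.au_mul hα h1, _, mul_mem hg (KZ.Dat.au_GF hα h2), h.mul h3⟩

variable [Fintype ↥(GF F G)]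

theorem rp_scalar (h : Au D α (u • 1)) {v : D.W} {m : Y} (hm : D.Rp v m) : D.Rp v (α m) := by
  obtain ⟨v', h1⟩ := h.mem_NN ⟨v, hm⟩
  have h2 := h.wm_rp hm h1
  have h3 : D.Wm v' = D.Wm v := (reg_of_det h.det_ne).right (by
    simp only
    rw [h2, mul_smul_comm, mul_one, smul_mul_assoc, one_mul])
  rwa [D.Wm_injective h3] at h1

theorem inn_of_scalar (s : Sit D Adm S) (hl : l.Prime) (hp : l ≠ p) (hq : q.Prime) (hlq : l ≠ q) {g : Y}
    (hg : g ∈ GF F G) (hα : Au D α (u • 1)) (L : Lt s σ g α)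
    (h3 : ∀ x : S, (∃ j : ℕ, orderOf x = l ^ j) → IsConj (σ x) x ∧ ¬ q ∣ (Subgroup.centralizer ({x} : Set S)).index) :
    ∃ M : ℕ, ¬ q ∣ M ∧ Inn l (σ ^ M) := by
  obtain ⟨f⟩ := nonempty_fr D
  have hA : Api f := KZ.Mts.boxApi f s.qs
  have := s.finite
  have := s.normal
  obtain ⟨w, hw⟩ := LV.Blk.exists_card D hl hp
  have hy := yw_mem D w
  have h1 := rp_scalar hα (yw_rp D w)
  rw [map_mul, map_inv, hα.comm] at h1
  obtain ⟨m, hm, e⟩ := exists_fix ((hα.memG _).2 hy) h1 (yw_rp D w) (tc_one w)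
  have h0 : yw D w * m * (α (yw D w))⁻¹ ∈ GF F G :=
    ⟨G.mul_mem (G.mul_mem hy hm.mem_G) (G.inv_mem ((hα.memG _).2 hy)), e⟩
  obtain ⟨a, ha, t, ht, e1⟩ := s.exists_T hA w (mul_mem hg (inv_mem h0))
  have hv : D.Rp 1 ((yw D w)⁻¹ * (a⁻¹ * g) * α (yw D w)) := by
    have h2 := (rp_of_mem (mem_cj.1 ht.1) : D.Rp 1 _).mul hm
    rw [one_mul] at h2
    rw [show (yw D w)⁻¹ * (a⁻¹ * g) * α (yw D w) = (yw D w)⁻¹ * t * yw D w * m by
      rw [← eq_mul_inv_iff_mul_eq.1 e1]; generalize yw D w = y; group]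
    exact h2
  let b : S := s.π ⟨a, ha⟩
  have L1 : Lt s (MulAut.conj b⁻¹ * σ) (a⁻¹ * g) α := fun h => by
    obtain ⟨h', e2, e3⟩ := L h
    refine ⟨⟨a, ha⟩⁻¹ * h' * ⟨a, ha⟩, ?_, ?_⟩
    · show a⁻¹ * h' * a = _
      rw [e2]
      group
    · rw [map_mul, map_mul, map_inv, e3, MulAut.mul_apply, MulAut.conj_apply, inv_inv]
  have hb : ∀ x, (MulAut.conj b⁻¹ * σ) x = b⁻¹ * σ x * b⁻¹⁻¹ := fun _ => rfl
  obtain ⟨M, h4, h5⟩ := inn_of_tor (τ := MulAut.conj b⁻¹ * σ) (u := u) hl hq hlq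
    (N := ((Subgroup.normalizer (Tw D w : Set Y)).subgroupOf s.H0).map s.π) (T := ((Tw D w).subgroupOf s.H0).map s.π)
    (fun h => by
      have h4 := h.trans (Subgroup.index_map_dvd _ s.surj)
      have h5 : (Nz F G (Tw D w)).relIndex s.H1 = ((Subgroup.normalizer (Tw D w : Set Y)).subgroupOf s.H0).index :=
        Subgroup.relIndex_subgroupOf s.le
      rw [← h5] at h4
      exact not_dvd_index hl (hw.trans (congrArg (fun n => n.factorization l) (card_Nz hy (yw_rp D w)).symm))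
        (h4.trans (relIndex_dvd _ _)))
    (Subgroup.map_mono fun x hx => Subgroup.le_normalizer (H := Tw D w) hx)
    (by
      rintro _ ⟨x, hx, rfl⟩ _ ⟨z, hz, rfl⟩
      rw [← map_mul, ← map_mul]
      exact congrArg _ (Subtype.ext ((sys' D).comm _ (Tw_mem w) x ⟨hx, s.le x.2⟩ z ⟨hz, s.le z.2⟩)))
    (by
      rintro _ ⟨x, hx, rfl⟩ _ ⟨z, hz, rfl⟩
      exact ⟨x * z * x⁻¹, (Subgroup.mem_normalizer_iff.1 hx z).1 hz, by rw [map_mul, map_mul, map_inv]⟩)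
    (by
      rintro _ ⟨x, hx, rfl⟩
      obtain ⟨x', e2, e3⟩ := L1 x
      obtain ⟨c, hc⟩ := (D.mem_T _).1 (mem_cj.1 (show (x : Y) ∈ cj (yw D w) D.T from hx))
      have e4 : (x : Y) = yw D w * D.τ c * (yw D w)⁻¹ := by rw [hc]; generalize yw D w = y; group
      rw [← e3, ← map_zpow]
      refine congrArg _ (Subtype.ext ?_)
      rw [e2, Subgroup.coe_zpow, e4, lf_tau hv hα, D.Wm_one, one_mul, mon_zsmul, mon_one, map_zpow, conj_zpow])
    (by
      rintro _ ⟨x, hx, rfl⟩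
      obtain ⟨x', e2, e3⟩ := L1 x
      obtain ⟨v, h4⟩ : ∃ v, D.Rp v ((yw D w)⁻¹ * x * yw D w) :=
        ⟨_, rp_wN hy (⟨⟨x, s.le x.2⟩, hx⟩ : Nz F G (cj (yw D w) D.T))⟩
      have h5 := (((hv.mul (rp_scalar hα h4)).mul hv.inv).mul h4.inv)
      rw [one_mul, inv_one, mul_one, mul_inv_cancel] at h5
      refine ⟨x' * x⁻¹, mem_cj.2 ?_, by rw [map_mul, map_inv, e3]⟩
      refine (congrArg (· ∈ D.T) ?_).mpr h5.mem_of_one
      show _ * ((x' : Y) * (x : Y)⁻¹) * _ = _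
      rw [e2, map_mul, map_mul, map_inv]
      generalize yw D w = y
      group)
    (fun x hx => ⟨(isConj_iff.2 ⟨b, by rw [hb]; group⟩).trans (h3 x hx).1, (h3 x hx).2⟩)
  obtain ⟨c, hc⟩ := conj_pow_aut hb M
  exact ⟨M, h4, h5.of_conj hc⟩

omit [Fintype ↥(GF F G)] in
/-- **Cross characteristic.** -/
theorem inn_of_sit (s : Sit D Adm S) {n : ℕ} (hAdm : ∀ A, Adm A → ∃ u : ℤ, A ^ n = u • 1) (hn : ¬ q ∣ n)
    (hl : l.Prime) (hp : l ≠ p) (hq : q.Prime) (hlq : l ≠ q) {j : ℕ} (hj : orderOf σ = q ^ j)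
    (h3 : ∀ x : S, (∃ j : ℕ, orderOf x = l ^ j) → IsConj (σ x) x ∧ ¬ q ∣ (Subgroup.centralizer ({x} : Set S)).index) :
    Inn l σ := by
  have := finite_GF D
  have := Fintype.ofFinite ↥(GF F G)
  obtain ⟨g, hg, α, A, h1, h2, L⟩ := s.aut σ
  obtain ⟨u, hu⟩ := hAdm A h2
  obtain ⟨h4, g', h5, L'⟩ := lt_pow hg h1 L n
  rw [hu] at h4
  have h6 : ∀ (i : ℕ) (x : S), (∃ j : ℕ, orderOf x = l ^ j) → IsConj ((σ ^ i) x) x := fun i => by
    induction i with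
    | zero => exact fun x _ => IsConj.refl x
    | succ i ih =>
      rintro x ⟨j, hx⟩
      rw [pow_succ, MulAut.mul_apply]
      exact (ih _ ⟨j, (MulEquiv.orderOf_eq σ x).trans hx⟩).trans (h3 x ⟨j, hx⟩).1
  obtain ⟨M, h7, h8⟩ := inn_of_scalar s hl hp hq hlq h5 h4 L' fun x hx => ⟨h6 n x hx, (h3 x hx).2⟩
  rw [← pow_mul] at h8
  refine h8.of_pow ?_
  rw [hj]
  exact Nat.Coprime.pow_right _ ((hq.coprime_iff_not_dvd.2 fun h => (hq.dvd_mul.1 h).elim hn h7).symm)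

end Cfsg.Agent.PQ.Fa
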