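import Cfsg.Agent.KZ.DatX.Three
import Cfsg.Agent.H743.MeetTw
import Cfsg.Agent.H795.NotAbRows

/-!
# The Suzuki groups as groups `G ^ F`; the Sylow `3`-subgroups of `D₄(q)` (helper42)

`has_2B2`, `notAb_D4`.
-/

set_option autoImplicit false
set_option linter.unusedSectionVars false

namespace Cfsg.Agent.PQ.Fa

open CoxeterSystem Cfsg Cfsg.Lie Cfsg.Lie.ChevalleyDatum Matrix
open Cfsg.Agent.ChevalleyStructure Cfsg.Agent.ChevalleyStructure.Elts Cfsg.Agent.ChevalleyStructure.CoxeterGeom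
  Cfsg.Agent.ChevalleyStructure.CoxeterGeomTypes Cfsg.Agent.ChevalleyStructure.NPerm
open Cfsg.Agent.Tits.Roots Cfsg.Agent.Nodes Cfsg.Agent.Nodes.RGDChev Cfsg.Agent.Nodes.BNOf
open Cfsg.Agent.KFacts.RgdChevCoord Cfsg.Agent.BpExc.TowChev Cfsg.Agent.GpExc.Field Cfsg.Agent.BpExc
  Cfsg.Agent.BpExc.TorChev
open Cfsg.Agent.DL Cfsg.Agent.DL.Ex Cfsg.Agent.DL.PP Cfsg.Agent.DL.Uni Cfsg.Agent.KZ.Lie Cfsg.Agent.KZ.DatX

theorem spcD_Sz (m : ℕ) :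
    Tw.SpcD chevB2 2 Tw.brB (fun r => m + Tw.lgB r) (Equiv.swap (0 : Fin 2) 1) (2 * m + 1) :=
  have h : (Tw.swB : Fin 2 → Fin 2) = Equiv.swap (0 : Fin 2) 1 := by decide
  h ▸ Tw.spcD_B2 m

/-- the special isogenies of `B₂` -/
noncomputable def gdSz (k : Type) [Field k] [CharP k 2] [IsAlgClosed k] (m : ℕ) :
    Gd hpB2 2 (Tw.szA k m) (Equiv.swap 0 1) fun i => m + (![1, 0] : Fin 2 → ℕ) i :=
  gdC (Tw.spc_B2 k m) (spcD_Sz m) posB fun i => congrArg (m + ·) (exB i)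

theorem has_2B2 {K : Type} [Field K] [Fintype K] {m : ℕ} (hm : 1 ≤ m) (hK : Fintype.card K = 2 ^ (2 * m + 1)) :
    Has hpB2 2 ((2 : ℤ) ^ m • GamB) (AdmF 2) 1 ↥(Lie.Sz K (2 ^ (m + 1))) := by
  obtain ⟨_, _, hk⟩ := Tw.setup' Nat.prime_two (Nat.succ_ne_zero _) hK
  have E := Tw.emb_B2 (algebraMap K (AlgebraicClosure K)) hK
  have O : Over (Tw.szA (AlgebraicClosure K) m) ⊤ (TT chevB2 _) (Tw.embB2 (algebraMap K _) (2 ^ (m + 1))) 1 := by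
    refine over_of_range E.inj (le_antisymm ?_ fun y hy => pow_one y ▸ E.pow y hy) (TT_comm hpB2) le_top
    rintro _ ⟨s, rfl⟩
    exact E.mem s
  refine ⟨AlgebraicClosure K, _, _, _, _, ⟨xsT hk ((Tw.spc_B2 _ m).amb (Tw.spcD_B2 m) hk (Nat.succ_pos _)) (gdSz _ m)
    (pm_add 2 _ m _) O (Nat.coprime_one_left _) (fun _ => idx_of_one O rfl) fun σ => ?_⟩⟩
  obtain ⟨g, τ, rfl⟩ := H743.MeetTw.sz_aut hm hK σ
  obtain ⟨j, hj⟩ := exists_frob 2 τ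
  refine ⟨_, (O.mem g).2, j, fun s => (conj_hom _ g _ s).trans ?_⟩
  congr 2
  obtain ⟨B, h1, h2⟩ := Tw.transfer (fun X => X.map (τ : K →+* K))
    (fun g _ h _ => by rw [Units.val_mul, Matrix.map_mul]) (by simp)
    (emb Tw.tyB2.inList (τ : K →+* K)) (fun r t => ⟨_, _, Tw.map_uM _ r t, by
      rw [Tw.toCh_uS, Tw.toCh_uS, emb_xc]⟩) (Tw.szS K _ s)
  have h3 : Tw.szS K _ (H70.SzOut.fieldAut (LieRecognition.SzMatrix.good hK) τ s) = B := Tw.toSp_inj (Units.ext (by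
    rw [h1, Tw.toSp_szS, Tw.toSp_szS]
    rfl))
  show emb hpB2.inList _ (Tw.toCh K (Tw.szS K _ _)) =
    emb hpB2.inList (iterateFrobenius _ 2 j) (emb hpB2.inList _ (Tw.toCh K (Tw.szS K _ s)))
  rw [h3, h2, emb_comp, emb_comp]
  congr 2
  ext a
  rw [RingHom.comp_apply, RingHom.comp_apply, RingHom.coe_coe, hj, map_pow]
  exact (iterateFrobenius_def _ _ _).symm

open Cfsg.Agent.H795.NotAbRows Cfsg.Agent.H795.NotAbData Cfsg.Agent.H795.NotAbCert Cfsg.Agent.H129.WData in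
theorem notAb_D4 {F : Type} [Field F] [Fintype F] (h3 : (3 : F) ≠ 0) : H800.Sp.NotAb 3 ↥(chevD4.group F) := by
  have : Fact (Nat.Prime 3) := ⟨Nat.prime_three⟩
  refine untw hpD4 (by exact_mod_cast h3) H129.TorusChar.invC_D4 two_ne_zero (Or.inr Nat.prime_two) (by norm_num)
    fun r e hr hpr => ?_
  rcases res3 (e := e) hr hpr with h | h
  · exact ⟨1, D4.c2, _, fun j m => if j = m then 1 else 0, _, ![0, 1, 0, 0], _, D4.c2_pow hpD4, isMat_one,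
      D4.is_c2 hpD4, h, by decide +kernel⟩
  · exact ⟨D4.c3, D4.c2, _, D4.c3M, _, ![0, 1, 0, 0], _, D4.c2_pow hpD4, D4.is_c3 hpD4, D4.is_c2 hpD4, h,
      by decide +kernel⟩

end Cfsg.Agent.PQ.Fa
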