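import Cfsg.Agent.PQ.Fa.Core
import Cfsg.Agent.PQ.Fa.Sz
import Cfsg.Agent.PQ.Alt.Fa
import Cfsg.Agent.KZ.Dat.GlS
import Cfsg.Agent.KZ.Dat.SpD
import Cfsg.Agent.KZ.Dat.OmS
import Cfsg.Agent.KZ.Tool.Res
import Cfsg.Agent.TID.KD.Main
import Cfsg.Agent.H330.GowBlk
import Cfsg.Agent.H330.GowOne
import Cfsg.Agent.H330.Gow
import Cfsg.Agent.H716.SplitAb
import Cfsg.Agent.Characters.GaloisIrr

/-!
# PQ: the rows `Fa` for the groups of Lie type (helper42)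

* `Cr r n S` : the conclusion in cross characteristic for the primes `q` which do not divide `n`; `cr_of_lie`;
* `own` : the defining characteristic;
* `lie : All LieAny Fa`, **`known : All Known Fa`**.
-/

set_option autoImplicit false
set_option linter.unusedSectionVars false

namespace Cfsg.Agent.PQ.Fa

open Cfsg Cfsg.Agent.DL Cfsg.Agent.DL.PP Cfsg.Agent.KZ.Lie Cfsg.Agent.KZ.Dat Cfsg.Agent.KZ.Dat.Om Cfsg.Agent.KZ.DatX
  Matrix

/-- the conclusion in cross characteristic -/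
def Cr (r n : ℕ) (S : Type) [Group S] : Prop :=
  ∀ l q : ℕ, l.Prime → q.Prime → l ≠ r → l ≠ q → ¬ q ∣ n → ∀ (σ : MulAut S) (j : ℕ), orderOf σ = q ^ j →
    (∀ x : S, (∃ j : ℕ, orderOf x = l ^ j) → IsConj (σ x) x ∧ ¬ q ∣ (Subgroup.centralizer ({x} : Set S)).index) →
    Inn l σ

section

variable {p : ℕ} [Fact p.Prime] {k : Type} [Field k] [CharP k p] {Y : Type} [Group Y] {N : Type} [Fintype N]
  [DecidableEq N] {ρ : Y →* GL N k} {F : MulAut Y} {G : Subgroup Y} [IsAlgClosed k] {D : Datum p ρ F G}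
  {Adm : Matrix D.R D.R ℤ → Prop} {S T : Type} [Group S] [Group T] {n : ℕ}

/-- transport of a situation -/
def sitTr (s : Sit D Adm S) (e : S ≃* T) : Sit D Adm T :=
  { s with
    π := e.toMonoidHom.comp s.π
    surj := e.surjective.comp s.surj
    ker := fun h => e.map_eq_one_iff.trans (s.ker h)
    aut := fun σ => by
      obtain ⟨g, hg, α, A, h1, h2, h3⟩ := s.aut (MulAut.congr e.symm σ)
      refine ⟨g, hg, α, A, h1, h2, fun h => ?_⟩
      obtain ⟨h', h4, h5⟩ := h3 h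
      exact ⟨h', h4, (congrArg e h5).trans (e.apply_symm_apply _)⟩ }

theorem cr_of_sit (s : Sit D Adm S) (e : T ≃* S) (h : ∀ A, Adm A → ∃ u : ℤ, A ^ n = u • 1) : Cr p n T :=
  fun _ _ hl hq hp hlq hn _ _ hj h3 => inn_of_sit (sitTr s e.symm) h hn hl hp hq hlq hj h3

end

section

variable {R : Type} [Fintype R] [DecidableEq R] {n : ℕ}

theorem sc_smul {B : Matrix R R ℤ} {u : ℤ} (h : B ^ n = u • 1) (c : ℤ) : ∃ v : ℤ, (c • B) ^ n = v • 1 :=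
  ⟨c ^ n * u, by rw [smul_pow, h, smul_smul]⟩

theorem sc_one (c : ℤ) : ∃ v : ℤ, (c • (1 : Matrix R R ℤ)) ^ n = v • 1 :=
  sc_smul (u := 1) (by rw [one_pow, one_smul]) c

theorem sc_inv {B : Matrix R R ℤ} (h : B * B = 1) (c : ℤ) : ∃ v : ℤ, (c • B) ^ 2 = v • 1 :=
  sc_smul (u := 1) (by rw [pow_two, h, one_smul]) c

theorem sc_Q {p : ℕ} (A : Matrix R R ℤ) (h : AdmQ p A) : ∃ u : ℤ, A ^ n = u • 1 := by
  obtain ⟨j, rfl⟩ := h
  exact sc_one _

end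

theorem sc_A {p n : ℕ} (A : Matrix (Fin (n + 1)) (Fin (n + 1)) ℤ) (h : AdmA p n A) : ∃ u : ℤ, A ^ 2 = u • 1 := by
  obtain ⟨j, rfl | rfl⟩ := h
  · exact sc_one _
  · exact sc_inv BA_BA _

theorem sc_D {p n : ℕ} (A : Matrix (Fin (n + 2)) (Fin (n + 2)) ℤ) (h : AdmD p n A) : ∃ u : ℤ, A ^ 2 = u • 1 := by
  obtain ⟨j, rfl | rfl⟩ := h
  · exact sc_one _
  · exact sc_inv (BD_mul n) _

theorem sc_L {p l n : ℕ} {L : List (Matrix (Fin l) (Fin l) ℤ)} (hL : ∀ B ∈ L, ∃ u : ℤ, B ^ n = u • 1)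
    (A : Matrix (Fin l) (Fin l) ℤ) (h : AdmL p L A) : ∃ u : ℤ, A ^ n = u • 1 := by
  obtain ⟨j, B, hB, rfl⟩ := h
  obtain ⟨u, hu⟩ := hL B hB
  exact sc_smul hu _

theorem sc_L2 {p l : ℕ} {B : Matrix (Fin l) (Fin l) ℤ} {u : ℤ} (hB : B * B = u • 1) (A : Matrix (Fin l) (Fin l) ℤ)
    (h : AdmL p [1, B] A) : ∃ u : ℤ, A ^ 2 = u • 1 := by
  refine sc_L (fun C hC => ?_) A h
  rcases List.mem_cons.1 hC with rfl | hC
  · exact ⟨1, by rw [one_pow, one_smul]⟩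
  · exact ⟨u, by rw [List.mem_singleton.1 hC, pow_two, hB]⟩

theorem sq_P6 : P6 * P6 = (1 : ℤ) • 1 := by decide +kernel

theorem sq_GamF : GamF * GamF = (2 : ℤ) • 1 := by decide +kernel

theorem sq_GamB : GamB * GamB = (2 : ℤ) • 1 := by decide +kernel

theorem sq_GamG : GamG * GamG = (3 : ℤ) • 1 := by decide +kernel

theorem pow_L4 : ∀ B ∈ L4, B * B * B * (B * B * B) = 1 := by decide +kernel

theorem cr_of_has {C : Lie.ChevalleyDatum} {l : ℕ} {M : CoxeterMatrix (Fin l)}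
    {hp : Nodes.RGDChev.IsType C l M} {p : ℕ} [Fact p.Prime] {Mx : Matrix (Fin l) (Fin l) ℤ}
    {Adm : Matrix (Fin l) (Fin l) ℤ → Prop} {d n : ℕ} {S T : Type} [Group S] [Group T] (h : Has hp p Mx Adm d S)
    (e : T ≃* S) (h1 : ∀ A, Adm A → ∃ u : ℤ, A ^ n = u • 1) : Cr p n T := by
  obtain ⟨k, _, _, _, X, ⟨s⟩⟩ := h
  exact cr_of_sit s.sit e h1

theorem eq_pow_of_card {r q j : ℕ} (hr : r.Prime) {K : Type} [Field K] [Fintype K] [CharP K r] (hj : j ≠ 0)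
    (hK : Fintype.card K = q ^ j) : ∃ e, 0 < e ∧ q = r ^ e := by
  obtain ⟨d, -, h⟩ := FiniteField.card K r
  obtain ⟨e, -, rfl⟩ := (Nat.dvd_prime_pow hr).1 (h ▸ hK ▸ dvd_pow_self q hj : q ∣ r ^ (d : ℕ))
  refine ⟨e, Nat.pos_of_ne_zero ?_, rfl⟩
  rintro rfl
  exact (Fintype.one_lt_card (α := K)).ne' (by rw [hK, pow_zero, one_pow])

variable {S : Type} [Group S] {r : ℕ}

/-- **cross characteristic, all families** -/
theorem cr_of_lie (hr : r.Prime) (h : IsLieTypeChar r S) :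
    Cr r 2 S ∨ (Cr r 6 S ∧ (r ≠ 3 → H800.Sp.NotAb 3 S)) := by
  have : Fact r.Prime := ⟨hr⟩
  rcases h with h | h | h | h | h | h | h | h | h | h | h
  · obtain ⟨F, _, _, _, n, h1, h2, ⟨i⟩⟩ := h
    obtain ⟨k, _, _, _, hk, e, he, f, hF⟩ := hasC r F
    obtain ⟨n, rfl⟩ : ∃ m, n = m + 1 := ⟨n - 1, by omega⟩
    exact .inl (cr_of_sit (covL f hk he hF (by omega) fun h => h2 (by omega)).sit i sc_A)
  · obtain ⟨F, _, _, _, n, h1, h2, ⟨i⟩⟩ := h
    obtain ⟨k, _, _, _, hk, e, he, f, hF⟩ := hasC r F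
    by_cases h3 : n = 2 ∧ r = 2
    · obtain ⟨rfl, rfl⟩ := h3
      exact .inl (cr_of_has (has_PSp4 hF) i (sc_L2 sq_GamB))
    · exact .inl (cr_of_sit (sitC f hk he hF h1 fun a b => h3 ⟨a, b⟩) i sc_Q)
  · obtain ⟨F, _, _, _, n, q, h0, h1, h2, ⟨i⟩⟩ := h
    obtain ⟨k, _, _, _, hk, -, -, f, -⟩ := hasC r F
    obtain ⟨e, he, rfl⟩ := eq_pow_of_card hr two_ne_zero h0
    obtain ⟨n, rfl⟩ : ∃ m, n = m + 1 := ⟨n - 1, by omega⟩
    exact .inl (cr_of_sit (covU f hk he h0 (by omega) fun h => h2 ⟨by omega, h.2⟩).sit i sc_Q)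
  · obtain ⟨F, _, _, _, n, h1, h2, ⟨i⟩⟩ := h
    obtain ⟨k, _, _, _, hk, e, he, f, hF⟩ := hasC r F
    obtain ⟨t, -⟩ := sitB f hF hk he (two_ne hF h2 he) h2 h1
    exact .inl (cr_of_sit t i sc_Q)
  · obtain ⟨F, _, _, _, n, h1, ⟨i⟩⟩ := h
    obtain ⟨k, _, _, _, hk, e, he, f, hF⟩ := hasC r F
    rcases h1.eq_or_lt with rfl | h1
    · refine .inr ⟨cr_of_has (has_plus8 hF) i (sc_L fun B hB => ⟨1, ?_⟩), fun h3 => ?_⟩
      · rw [one_smul, ← pow_L4 B hB]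
        simp only [pow_succ, pow_zero, one_mul, mul_assoc]
      · have : Fact (Nat.Prime 3) := ⟨Nat.prime_three⟩
        obtain ⟨i'⟩ := S1082.result (F := F)
        refine (notAb_D4 (F := F) fun h4 => h3 ?_).of_mulEquiv (i'.trans i.symm)
        exact (Nat.prime_dvd_prime_iff_eq hr Nat.prime_three).1 ((CharP.cast_eq_zero_iff F r 3).1 (by exact_mod_cast h4))
    · obtain ⟨n, rfl⟩ : ∃ m, n = m + 2 := ⟨n - 2, by omega⟩
      obtain ⟨t, -⟩ := sitP f hF hk he (n := n) (by omega)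
      exact .inl (cr_of_sit t i sc_D)
  · obtain ⟨F, _, _, _, n, a, b, h1, h2, ⟨i⟩⟩ := h
    obtain ⟨k, _, _, _, hk, e, he, f, hF⟩ := hasC r F
    obtain ⟨n, rfl⟩ : ∃ m, n = m + 2 := ⟨n - 2, by omega⟩
    obtain ⟨t, -⟩ := sitM f hF hk he (n := n) (by omega) h2
    exact .inl (cr_of_sit t i sc_D)
  · obtain ⟨F, _, _, _, h⟩ := h
    obtain ⟨e, -, hF⟩ := FiniteField.card F r
    rcases h with ⟨h1, ⟨i⟩⟩ | ⟨⟨i⟩⟩ | ⟨⟨i⟩⟩ | ⟨⟨i⟩⟩ | ⟨⟨i⟩⟩
    · by_cases h3 : r = 3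
      · subst h3
        exact .inl (cr_of_has (has_G2three hF) i (sc_L2 sq_GamG))
      · exact .inl (cr_of_has (has_G2 hF h3 h1) i (sc_Q (p := r)))
    · by_cases h2 : r = 2
      · subst h2
        exact .inl (cr_of_has (has_F4two hF) i (sc_L2 sq_GamF))
      · exact .inl (cr_of_has (has_F4 hF h2) i (sc_Q (p := r)))
    · exact .inl (cr_of_has (has_E6 hF) i (sc_L2 sq_P6))
    · exact .inl (cr_of_has (has_E7 hF) i (sc_Q (p := r)))
    · exact .inl (cr_of_has (has_E8 hF) i (sc_Q (p := r)))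
  · obtain ⟨K, _, _, _, q, -, ⟨hK, ⟨i⟩⟩ | ⟨hK, ⟨i⟩⟩⟩ := h
    · obtain ⟨e, -, rfl⟩ := eq_pow_of_card hr two_ne_zero hK
      exact .inl (cr_of_has (has_2E6 hK) i (sc_Q (p := r)))
    · obtain ⟨e, -, rfl⟩ := eq_pow_of_card hr three_ne_zero hK
      exact .inl (cr_of_has (has_3D4 hK) i (sc_Q (p := r)))
  · obtain ⟨rfl, K, _, _, m, hm, hK, ⟨i⟩⟩ := h
    exact .inl (cr_of_has (has_2B2 hm hK) i (sc_Q (p := 2)))
  · obtain ⟨rfl, K, _, _, m, hm, hK, ⟨i⟩⟩ := h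
    exact .inl (cr_of_has (has_2F4 hm hK) i (sc_Q (p := 2)))
  · obtain ⟨rfl, K, _, _, m, hm, hK, ⟨i⟩⟩ := h
    exact .inl (cr_of_has (has_2G2 hm hK) i (sc_Q (p := 3)))

/-- **the defining characteristic**: an automorphism which fixes the principal block fixes all classes -/
theorem own [Finite S] [hs : IsSimpleGroup S] (hn : ¬ IsMulCommutative S) (h : IsLieTypeChar r S) {M : Ideal AlgInt}
    (hM : IsPModular r M) (hd : r ∣ Nat.card S) {α : MulAut S}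
    (hα : ∀ χ : IrrCharacter S, χ ∈ principalBlock M S → ∀ g, (χ : S → ℂ) (α g) = (χ : S → ℂ) g) (x : S) :
    IsConj (α x) x := by
  have : Fact r.Prime := ⟨hM.1⟩
  have h1 := H716.SplitAb.hasSplitAb_of_lie hM.1 h
  have h2 : Subgroup.center S = ⊥ := (hs.eq_bot_or_eq_top_of_normal _ inferInstance).resolve_right fun h2 =>
    hn ⟨⟨fun a b => Subgroup.mem_center_iff.1 (h2.ge (Subgroup.mem_top b)) a⟩⟩
  refine Characters.GaloisIrr.isConj_of_forall_irr fun χ hχ => ?_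
  by_cases h3 : r ∣ Nat.card S / charDegree χ
  · exact hα ⟨χ, hχ⟩ (H330.GowBlk.mem_principal hM hd (TID.KD.locChar_of_lie h) h2 ⟨χ, hχ⟩ h3) x
  · have h4 := H330.GowOne.unique_of_hasSplitAb h1 (H330.Gow.perfect_of_split (H330.Gow.hasSplit_of_ab h1))
      (KZ.Res.pull α.toMonoidHom α.surjective ⟨χ, hχ⟩) ⟨χ, hχ⟩ ((KZ.Res.pull_deg α.toMonoidHom α.surjective ⟨χ, hχ⟩).symm ▸ h3) h3
    exact congrFun (congrArg Subtype.val h4) x

/-- **The rows `Fa` of Lie type.** -/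
theorem lie : All LieAny Fa := by
  rintro S _ _ hs hn ⟨r, hr, h⟩ l q hl hq hlq hq2 M hM hd hP α ⟨j, hj⟩ hα
  by_cases hlr : l = r
  · subst hlr
    exact ⟨default, 1, fun x _ => by
      rw [eq_one_of_cls hq (fun h1 => ((hP h1).nc l hr h).1 rfl) hj (own hn h hM hd hα), one_mul, inv_one, mul_one]⟩
  have h1 : ∀ x : S, (∃ j : ℕ, orderOf x = l ^ j) →
      IsConj (α x) x ∧ ¬ q ∣ (Subgroup.centralizer ({x} : Set S)).index := fun x hx =>
    ⟨Red.isConj_of_fix hM α hα hx, fun h2 =>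
      Red.com_class hl hq (hP (h2.trans (Subgroup.index_dvd_card _))).com x hx h2⟩
  have h2 : ¬ q ∣ 2 := fun h2 => hq2 ((Nat.prime_dvd_prime_iff_eq hq Nat.prime_two).1 h2)
  rcases cr_of_lie hr h with h3 | ⟨h3, h4⟩
  · exact h3 l q hl hq hlr hlq h2 α j hj h1
  refine h3 l q hl hq hlr hlq (fun h5 => ?_) α j hj h1
  obtain rfl : q = 3 :=
    (Nat.prime_dvd_prime_iff_eq hq Nat.prime_three).1 ((hq.dvd_mul.1 (show q ∣ 2 * 3 from h5)).resolve_left h2)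
  have : Fact (Nat.Prime 3) := ⟨hq⟩
  by_cases h6 : r = 3
  · subst h6
    exact ((hP (H330.Gow.dvd_card (H330.Gow.hasSplit_of_ab (H716.SplitAb.hasSplitAb_of_lie hr h)))).nc 3 hr h).2 rfl
  · obtain ⟨P⟩ : Nonempty (Sylow 3 S) := inferInstance
    by_cases h7 : 3 ∣ Nat.card S
    · exact h4 h6 P ((hP h7).abq P)
    · have h8 : Nat.card (P : Subgroup S) = 1 := by
        rw [P.card_eq_multiplicity, Nat.factorization_eq_zero_of_not_dvd h7, pow_zero]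
      have := (Nat.card_eq_one_iff_unique.1 h8).1
      exact h4 h6 P ⟨⟨fun a b => Subsingleton.elim _ _⟩⟩

/-- **The row `Fa` for all known simple groups.** -/
theorem known : All Known Fa := all_known_of_lie Alt.nlFa lie

end Cfsg.Agent.PQ.Fa
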