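import Cfsg.Agent.PQ.Red.A
import Cfsg.Agent.H395.Jordan

/-!
# PQ, the rows `Fa`: group theory (helper42)

* `Inn l σ` : `σ` acts on a Sylow `l`-subgroup like an inner automorphism; `Inn.of_pow`, `Inn.of_conj`;
* `inn_of_tor` : an automorphism which is a power map on an abelian normal subgroup `T` of `N` and trivial on `N / T`;
* `eq_one_of_cls` : class preserving automorphisms of coprime prime power order.
-/

set_option autoImplicit false

namespace Cfsg.Agent.PQ.Fa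

open Subgroup

variable {S : Type} [Group S] {l q : ℕ} {σ τ : MulAut S}

/-- `σ` acts on a Sylow `l`-subgroup like an inner automorphism -/
def Inn (l : ℕ) (σ : MulAut S) : Prop := ∃ (P : Sylow l S) (s : S), ∀ x ∈ (P : Subgroup S), σ x = s * x * s⁻¹

theorem Inn.pow (h : Inn l σ) (n : ℕ) : Inn l (σ ^ n) := by
  obtain ⟨P, s, h⟩ := h
  refine ⟨P, ?_⟩
  induction n with
  | zero => exact ⟨1, fun x _ => by simp⟩
  | succ n ih =>
    obtain ⟨t, ht⟩ := ih
    refine ⟨(σ ^ n) s * t, fun x hx => ?_⟩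
    rw [pow_succ, MulAut.mul_apply, h x hx, map_mul, map_mul, map_inv, ht x hx]
    group

theorem Inn.of_pow {n : ℕ} (h : Inn l (σ ^ n)) (hn : n.Coprime (orderOf σ)) : Inn l σ := by
  obtain ⟨m, hm⟩ := exists_pow_eq_self_of_coprime (x := σ) hn
  rw [← hm]
  exact h.pow m

theorem Inn.of_conj (h : Inn l τ) {b : S} (hb : ∀ x, τ x = b * σ x * b⁻¹) : Inn l σ := by
  obtain ⟨P, s, h⟩ := h
  refine ⟨P, b⁻¹ * s, fun x hx => ?_⟩
  have h1 := (hb x).symm.trans (h x hx)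
  calc σ x = b⁻¹ * (b * σ x * b⁻¹) * b := by group
    _ = _ := by rw [h1]; group

theorem conj_pow_aut {b : S} (hb : ∀ x, τ x = b * σ x * b⁻¹) (n : ℕ) :
    ∃ c, ∀ x, (τ ^ n) x = c * (σ ^ n) x * c⁻¹ := by
  induction n with
  | zero => exact ⟨1, fun x => by simp⟩
  | succ n ih =>
    obtain ⟨c, hc⟩ := ih
    refine ⟨b * σ c, fun x => ?_⟩
    rw [pow_succ', MulAut.mul_apply, hc, hb, pow_succ', MulAut.mul_apply, map_mul, map_mul, map_inv]
    group

variable [Finite S]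

/-- a power of `τ` fixes `x` -/
theorem pow_fix (hq : q.Prime) {x : S} {u : ℤ} (h1 : τ x = x ^ u) (h2 : IsConj (τ x) x)
    (h3 : ¬ q ∣ (centralizer ({x} : Set S)).index) :
    (τ ^ (Nat.card S / q ^ (Nat.card S).factorization q)) x = x := by
  obtain ⟨c, hc⟩ := isConj_iff.1 h2
  let C := centralizer ({x} : Set S)
  have h4 : c ∈ normalizer (C : Set S) := mem_normalizer_fintype fun n hn => by
    have h5 : n * x = x * n := mem_centralizer_singleton_iff.1 hn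
    have h6 : n * x ^ u = x ^ u * n := ((show Commute n x from h5).zpow_right u).eq
    refine mem_centralizer_singleton_iff.2 ?_
    rw [← h1] at h6
    calc c * n * c⁻¹ * x = c * (n * τ x) * c⁻¹ := by
          conv_lhs => rw [← hc]
          group
      _ = c * τ x * c⁻¹ * (c * n * c⁻¹) := by rw [h6]; group
      _ = _ := by rw [hc]
  have h5 : ∀ j : ℕ, (τ ^ j) x = (c ^ j)⁻¹ * x * c ^ j := fun j => by
    induction j with
    | zero => simp
    | succ j ih =>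
      have h6 : x ^ u = c⁻¹ * x * c := by
        conv_rhs => rw [← hc, h1]
        group
      rw [pow_succ, MulAut.mul_apply, h1, map_zpow, ih,
        show (c ^ j)⁻¹ * x * c ^ j = (c ^ j)⁻¹ * x * (c ^ j)⁻¹⁻¹ by rw [inv_inv], conj_zpow, h6]
      group
  have h6 : C.relIndex (normalizer (C : Set S)) ∣ Nat.card S / q ^ (Nat.card S).factorization q := by
    have h7 : C.relIndex (normalizer (C : Set S)) ∣ C.index := relIndex_dvd_index_of_le le_normalizer
    have h8 := h7.trans C.index_dvd_card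
    rw [← Nat.ordProj_mul_ordCompl_eq_self (Nat.card S) q] at h8
    exact (Nat.Coprime.pow_right _ ((hq.coprime_iff_not_dvd.2 fun h => h3 (h.trans h7)).symm)).dvd_of_dvd_mul_left h8
  obtain ⟨m, hm⟩ := h6
  have h7 : c ^ C.relIndex (normalizer (C : Set S)) ∈ C :=
    (C.subgroupOf (normalizer (C : Set S))).pow_index_mem ⟨c, h4⟩
  have h8 := mem_centralizer_singleton_iff.1 (pow_mem h7 m)
  rw [h5, hm, pow_mul, mul_assoc, ← h8, inv_mul_cancel_left]

/-- an automorphism which is trivial modulo a normal `l'`-subgroup -/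
theorem inn_of_mod (hl : l.Prime) {N K : Subgroup S} (hN : ¬ l ∣ N.index) (hKN : K ≤ N)
    (hK : ∀ n ∈ N, ∀ t ∈ K, n * t * n⁻¹ ∈ K) (hc : ∀ t ∈ K, ¬ l ∣ orderOf t ∨ t = 1)
    (h : ∀ n ∈ N, τ n * n⁻¹ ∈ K) : Inn l τ := by
  have : Fact l.Prime := ⟨hl⟩
  obtain ⟨P, hP⟩ := H573.exists_sylow_le_of_index N hN
  let H : Subgroup S := K ⊔ (P : Subgroup S)
  have hHN : H ≤ N := sup_le hKN hP
  have hn : (K.subgroupOf H).Normal := ⟨fun t ht n => hK n (hHN n.2) t ht⟩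
  have h1 : ∀ x ∈ (P : Subgroup S), τ x ∈ H := fun x hx => by
    rw [← inv_mul_cancel_right (τ x) x]
    exact mul_mem (mem_sup_left (h x (hP hx))) (mem_sup_right hx)
  have h2 : IsPGroup l (((P : Subgroup S).map τ.toMonoidHom).subgroupOf H) :=
    (P.2.map _).comap_of_injective _ Subtype.val_injective
  obtain ⟨Q, hQ⟩ := h2.exists_le_sylow
  obtain ⟨g, hg⟩ := MulAction.exists_smul_eq H (P.subtype le_sup_right) Q
  have h3 : K.subgroupOf H ⊔ (P : Subgroup S).subgroupOf H = ⊤ := by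
    rw [← subgroupOf_sup le_sup_left le_sup_right]
    exact subgroupOf_self _
  obtain ⟨κ, hκ, y, hy, rfl⟩ := mem_sup_of_normal_left.1 (h3.ge (mem_top g))
  refine ⟨P, κ, fun x hx => ?_⟩
  have h4 : (⟨τ x, h1 x hx⟩ : H) ∈ (Q : Subgroup H) := hQ ⟨x, hx, rfl⟩
  rw [← hg] at h4
  obtain ⟨z, hz, h5⟩ := h4
  have h6 : (κ : S) * y * z * ((κ : S) * y)⁻¹ = τ x := congrArg Subtype.val h5
  have h7 : (κ : S)⁻¹ * τ x * κ * x⁻¹ ∈ (P : Subgroup S) := by
    rw [← h6, show (κ : S)⁻¹ * ((κ : S) * y * z * ((κ : S) * y)⁻¹) * κ * x⁻¹ = y * z * (y : S)⁻¹ * x⁻¹ by group]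
    exact mul_mem (mul_mem (mul_mem hy hz) (inv_mem hy)) (inv_mem hx)
  have h8 : (κ : S)⁻¹ * τ x * κ * x⁻¹ ∈ K := by
    rw [show (κ : S)⁻¹ * τ x * κ * x⁻¹ = (κ : S)⁻¹ * (τ x * x⁻¹) * (x * κ * x⁻¹) by group]
    exact mul_mem (mul_mem (inv_mem hκ) (h x (hP hx))) (hK x (hP hx) κ hκ)
  have h9 : (κ : S)⁻¹ * τ x * κ * x⁻¹ = 1 := by
    rcases hc _ h8 with h9 | h9
    · obtain ⟨j, hj⟩ := Red.order_of_mem hl P.2 h7
      rcases Nat.eq_zero_or_pos j with rfl | h0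
      · rwa [pow_zero, orderOf_eq_one_iff] at hj
      · exact absurd (hj ▸ dvd_pow_self l h0.ne') h9
    · exact h9
  calc τ x = κ * ((κ : S)⁻¹ * τ x * κ * x⁻¹) * x * (κ : S)⁻¹ := by group
    _ = _ := by rw [h9, mul_one]

/-- **The abstract torus lemma.** -/
theorem inn_of_tor (hl : l.Prime) (hq : q.Prime) (hlq : l ≠ q) {N T : Subgroup S} (hN : ¬ l ∣ N.index) (hTN : T ≤ N)
    (hT : ∀ a ∈ T, ∀ b ∈ T, a * b = b * a) (hNT : ∀ n ∈ N, ∀ t ∈ T, n * t * n⁻¹ ∈ T) {u : ℤ}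
    (h1 : ∀ t ∈ T, τ t = t ^ u) (h2 : ∀ n ∈ N, τ n * n⁻¹ ∈ T)
    (h3 : ∀ x : S, (∃ j : ℕ, orderOf x = l ^ j) → IsConj (τ x) x ∧ ¬ q ∣ (centralizer ({x} : Set S)).index) :
    ∃ M : ℕ, ¬ q ∣ M ∧ Inn l (τ ^ M) := by
  obtain ⟨M, hM⟩ : ∃ M, M = Nat.card S / q ^ (Nat.card S).factorization q := ⟨_, rfl⟩
  obtain ⟨a, ha⟩ : ∃ a, a = (Nat.card S).factorization l := ⟨_, rfl⟩
  obtain ⟨m, hm⟩ : ∃ m, m = Nat.card S / l ^ a := ⟨_, rfl⟩
  have hc : Nat.card S = l ^ a * m := by rw [hm, ha, Nat.ordProj_mul_ordCompl_eq_self]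
  have hlm : ¬ l ∣ m := by rw [hm, ha]; exact Nat.not_dvd_ordCompl hl Nat.card_pos.ne'
  have k1 : ∀ j : ℕ, ∀ t ∈ T, (τ ^ j) t ∈ T := fun j => by
    induction j with
    | zero => exact fun t ht => ht
    | succ j ih => exact fun t ht => by rw [pow_succ, MulAut.mul_apply, h1 t ht]; exact ih _ (zpow_mem ht u)
  have k2 : ∀ j : ℕ, ∀ n ∈ N, (τ ^ j) n * n⁻¹ ∈ T := fun j n hn => by
    induction j with
    | zero => simp
    | succ j ih =>
      rw [show (τ ^ (j + 1)) n * n⁻¹ = (τ ^ j) (τ n * n⁻¹) * ((τ ^ j) n * n⁻¹) by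
        rw [pow_succ, MulAut.mul_apply, map_mul, map_inv]; group]
      exact mul_mem (k1 j _ (h2 n hn)) ih
  have k3 : ∀ t ∈ T, (τ ^ M) (t ^ m) = t ^ m := fun t ht => by
    have h4 : ∃ j : ℕ, orderOf (t ^ m) = l ^ j := by
      obtain ⟨j, -, hj⟩ := (Nat.dvd_prime_pow hl).1 (orderOf_dvd_of_pow_eq_one (x := t ^ m) (n := l ^ a)
        (by rw [← pow_mul, mul_comm, ← hc, pow_card_eq_one']))
      exact ⟨j, hj⟩
    rw [hM]
    exact pow_fix hq (h1 _ (pow_mem ht m)) (h3 _ h4).1 (h3 _ h4).2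
  have k4 : ∀ j : ℕ, ∀ t ∈ T, ((τ ^ M) ^ j) (t ^ m) = t ^ m := fun j t ht => by
    induction j with
    | zero => rfl
    | succ j ih => rw [pow_succ, MulAut.mul_apply, k3 t ht, ih]
  have k5 : ∀ j : ℕ, ∀ n ∈ N, (((τ ^ M) ^ j) n * n⁻¹) ^ m = (((τ ^ M) n * n⁻¹) ^ m) ^ j := fun j n hn => by
    induction j with
    | zero => simp
    | succ j ih =>
      have h4 : ((τ ^ M) ^ j) ((τ ^ M) n * n⁻¹) ∈ T := by rw [← pow_mul]; exact k1 _ _ (k2 M n hn)
      have h5 : ((τ ^ M) ^ j) n * n⁻¹ ∈ T := by rw [← pow_mul]; exact k2 _ n hn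
      rw [show ((τ ^ M) ^ (j + 1)) n * n⁻¹ = ((τ ^ M) ^ j) ((τ ^ M) n * n⁻¹) * (((τ ^ M) ^ j) n * n⁻¹) by
        rw [pow_succ, MulAut.mul_apply, map_mul, map_inv]; group,
        (show Commute _ _ from hT _ h4 _ h5).mul_pow, ← map_pow, k4 j _ (k2 M n hn), ih, pow_succ']
  let K : Subgroup S :=
    { carrier := {t | t ∈ T ∧ t ^ m = 1}
      one_mem' := ⟨one_mem _, one_pow _⟩
      mul_mem' := fun {a b} ha hb => ⟨mul_mem ha.1 hb.1, by
        rw [(show Commute a b from hT a ha.1 b hb.1).mul_pow, ha.2, hb.2, one_mul]⟩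
      inv_mem' := fun {a} ha => ⟨inv_mem ha.1, by rw [inv_pow, ha.2, inv_one]⟩ }
  refine ⟨M * l ^ a, fun h => ?_, inn_of_mod hl (K := K) hN (fun t ht => hTN ht.1)
    (fun n hn t ht => ⟨hNT n hn t ht.1, by rw [conj_pow, ht.2, mul_one, mul_inv_cancel]⟩)
    (fun t ht => .inl fun h => hlm (h.trans (orderOf_dvd_of_pow_eq_one ht.2))) fun n hn => ⟨k2 _ n hn, ?_⟩⟩
  · rcases hq.dvd_mul.1 h with h | h
    · exact Nat.not_dvd_ordCompl hq Nat.card_pos.ne' (hM ▸ h)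
    · exact hlq ((Nat.prime_dvd_prime_iff_eq hq hl).1 (hq.dvd_of_dvd_pow h)).symm
  · rw [pow_mul, k5 _ n hn, ← pow_mul, mul_comm, ← hc, pow_card_eq_one']

/-- class preserving automorphisms of coprime prime power order are trivial -/
theorem eq_one_of_cls (hq : q.Prime) (hd : ¬ q ∣ Nat.card S) {k : ℕ} (hk : orderOf σ = q ^ k)
    (h : ∀ x, IsConj (σ x) x) (x : S) : σ x = x := by
  have : Fact q.Prime := ⟨hq⟩
  have : Finite (MulAut S) := Finite.of_injective _ (DFunLike.coe_injective (F := MulAut S))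
  have h1 : ∀ a ∈ zpowers σ, ∀ x, IsConj (a x) x := fun a ha => by
    obtain ⟨n, rfl⟩ := (mem_powers_iff_mem_zpowers.2 ha : a ∈ Submonoid.powers σ)
    induction n with
    | zero => exact fun x => IsConj.refl x
    | succ n ih =>
      intro x
      show IsConj ((σ ^ (n + 1)) x) x
      rw [pow_succ, MulAut.mul_apply]
      exact (ih (pow_mem (mem_zpowers σ) n) _).trans (h x)
  by_contra hx
  have h2 : MonoidHom.eqLocus σ.toMonoidHom (MonoidHom.id S) ≠ ⊤ := fun h2 => hx (h2.ge (mem_top x))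
  obtain ⟨g, hg⟩ := H395.Jordan.exists_not_conj_mem h2
  let A : MulAction (zpowers σ) {y : S // IsConj g y} :=
    { smul := fun a y => ⟨a.1 y, y.2.trans (h1 a a.2 y).symm⟩
      one_smul := fun _ => rfl
      mul_smul := fun _ _ _ => rfl }
  have h3 : IsPGroup q (zpowers σ) := IsPGroup.of_card (n := k) (by rw [Nat.card_zpowers, hk])
  obtain ⟨y, hy⟩ := h3.nonempty_fixed_point_of_prime_not_dvd_card {y : S // IsConj g y} fun h4 => hd (h4.trans (by
    have h5 : Nat.card {y : S // IsConj g y} = (MulAction.stabilizer (ConjAct S) g).index := by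
      rw [MulAction.index_stabilizer, ← Nat.card_coe_set_eq]
      exact Nat.card_congr (Equiv.subtypeEquivRight fun y => isConj_comm.trans ConjAct.mem_orbit_conjAct.symm)
    rw [h5]
    exact (index_dvd_card _).trans (Nat.card_congr ConjAct.ofConjAct.toEquiv).dvd))
  obtain ⟨c, hc⟩ := isConj_iff.1 y.2
  refine hg c⁻¹ ?_
  rw [inv_inv, hc]
  exact congrArg Subtype.val (hy ⟨σ, mem_zpowers σ⟩)

end Cfsg.Agent.PQ.Fa
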